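import Groth.Agent.H15Site.SetBC.Fibre
import Groth.Agent.H18PBC.DegreeZero
import Groth.Agent.H18Et.BaseChangeSh

/-!
# Proper base change for sheaves of sets
-/

set_option autoImplicit false
set_option linter.style.haveILetI false
set_option linter.unusedSectionVars false
set_option backward.isDefEq.respectTransparency false
set_option backward.isDefEq.respectTransparency.types false

universe u

open CategoryTheory CategoryTheory.Limits AlgebraicGeometry Opposite
open scoped Groth.Agent.H18Et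

namespace Groth.Agent.H15Site.SetBC

open H15Site.SetDescent H18Et H18PBC H18PBC.Fibre H18PBC.DegZero

variable {X Y X' Y' : Scheme.{u}} (f : X ⟶ Y) (g : Y' ⟶ Y) (f' : X' ⟶ Y') (g' : X' ⟶ X)

/-- The base change map on the image of a section of `f_* G`. -/
theorem baseChange0Sh_unit (w : g' ≫ f = f' ≫ g) (G : EtDesc.Sh X) (V : Y.Etale) (s : pSect f G V) :
    (EtBC.baseChange0Sh f g f' g' w G).hom.app (op ((EtCoh.bc g).obj V))
        (pullSect g ((EtDesc.pushSh f).obj G) s) =
      ((EtDesc.pullSh g').obj G).obj.map (cMap f g f' g' w V).op (pullSect g' G s) := by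
  have e := ((EtDesc.adjSh g).homEquiv ((EtDesc.pushSh f).obj G)
    ((EtDesc.pushSh f').obj ((EtDesc.pullSh g').obj G))).apply_symm_apply
      ((EtDesc.pushSh f).map ((EtDesc.adjSh g').unit.app G) ≫ (EtDesc.pushCompSh f g').hom.app _ ≫
        (EtBC.pushCongrSh w).hom.app _ ≫ (EtDesc.pushCompSh g f').inv.app _)
  rw [Adjunction.homEquiv_unit] at e
  refine (ConcreteCategory.congr_hom (congr_app (congrArg (fun k => (sheafToPresheaf _ _).map k) e) (op V)) s).trans ?_
  unfold cMap
  rw [op_comp, op_comp, Functor.map_comp_apply, Functor.map_comp_apply]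
  rfl

variable {Ω : Type u} [Field Ω] [IsSepClosed Ω] (η' : Spec (CommRingCat.of Ω) ⟶ Y')

/-- The comparison of the sections on the two geometric fibres. -/
noncomputable def cmpS (h : IsPullback g' f' f g) (G : EtDesc.Sh X)
    (σ : ((EtDesc.pullSh (pullback.fst f (η' ≫ g))).obj G).obj.obj
      (op ((EtCoh.bc (pullback.fst f (η' ≫ g))).obj (EtCoh.top X)))) :
    ((EtDesc.pullSh (pullback.fst f' η')).obj ((EtDesc.pullSh g').obj G)).obj.obj
      (op ((EtCoh.bc (pullback.fst f' η')).obj (EtCoh.top X'))) :=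
  (EtDesc.pullVia _ _ _ rfl G).inv.hom.app _
    (((EtDesc.pullSh (pullback.fst f' η' ≫ g')).obj G).obj.map
      ((EtCore.bcTopIsTerminal (pullback.fst f' η' ≫ g')).from
        ((EtCoh.bc (pullback.fst f' η')).obj (EtCoh.top X'))).op
      (transfer (fibreIso f g f' g' η' h).hom (pullback.fst f (η' ≫ g)) (pullback.fst f' η' ≫ g')
        (fibreIso_fst f g f' g' η' h) G (EtCoh.top X) σ))

variable [IsProper f] [IsProper f']

theorem cmpS_bijective (h : IsPullback g' f' f g) (G : EtDesc.Sh X) :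
    Function.Bijective (cmpS f g f' g' η' h G) := by
  have h2 : Function.Bijective ((EtDesc.pullVia (pullback.fst f' η') g' _ rfl G).inv.hom.app
      (op ((EtCoh.bc (pullback.fst f' η')).obj (EtCoh.top X')))) :=
    (isIso_iff_bijective _).1 (inferInstance :
      IsIso (((sheafToPresheaf _ _).map (EtDesc.pullVia (pullback.fst f' η') g' _ rfl G).inv).app
        (op ((EtCoh.bc (pullback.fst f' η')).obj (EtCoh.top X')))))
  let θ : (EtCoh.bc (pullback.fst f' η')).obj (EtCoh.top X') ≅
      (EtCoh.bc (pullback.fst f' η' ≫ g')).obj (EtCoh.top X) :=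
    (EtCore.bcTopIsTerminal _).uniqueUpToIso (EtCore.bcTopIsTerminal _)
  have h3 := bijective_map_iso ((EtDesc.pullSh (pullback.fst f' η' ≫ g')).obj G).obj θ
  haveI : CompactSpace (pullback f (η' ≫ g) : Scheme.{u}) :=
    QuasiCompact.compactSpace_of_compactSpace (pullback.snd f (η' ≫ g))
  haveI : QuasiSeparatedSpace (pullback f (η' ≫ g) : Scheme.{u}) :=
    quasiSeparatedSpace_of_quasiSeparated (pullback.snd f (η' ≫ g))
  have h4 := bijective_transfer (fibreIso f g f' g' η' h).hom (pullback.fst f (η' ≫ g))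
    (pullback.fst f' η' ≫ g') (fibreIso_fst f g f' g' η' h) G
    (bijective_pullSect_iso (fibreIso f g f' g' η' h) _)
  exact h2.comp (h3.comp h4)

theorem resS_baseChange0Sh (h : IsPullback g' f' f g) (G : EtDesc.Sh X) {V : Y.Etale}
    (v : (Scheme.pointSmallEtale (η' ≫ g)).fiber.obj V) (s : pSect f G V) :
    resS f' η' ((EtDesc.pullSh g').obj G) ((fiberCompIso g η').inv.app V v)
        ((EtBC.baseChange0Sh f g f' g' h.w G).hom.app (op ((EtCoh.bc g).obj V))
          (pullSect g ((EtDesc.pushSh f).obj G) s)) =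
      cmpS f g f' g' η' h G (resS f (η' ≫ g) G v s) := by
  rw [baseChange0Sh_unit f g f' g' h.w G V s]
  let z := (fiberCompIso g η').inv.app V v
  unfold resS
  rw [pullSect_map]
  refine (Functor.map_comp_apply _ _ _ _).symm.trans ?_
  let b := pullback.fst f' η' ≫ g'
  let jb : (EtCoh.bc b).obj (EtCoh.top X) ⟶ (EtCoh.bc b).obj ((EtCoh.bc f).obj V) :=
    MorphismProperty.Over.homMk (pullback.lift
      (((EtCoh.bc b).obj (EtCoh.top X)).hom ≫ (fibreIso f g f' g' η' h).hom ≫
        pullback.lift (pullback.snd f (η' ≫ g) ≫ v.left) (pullback.fst f (η' ≫ g))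
          ((Category.assoc _ _ _).trans ((congrArg (_ ≫ ·) (Over.w v)).trans pullback.condition.symm)))
      ((EtCoh.bc b).obj (EtCoh.top X)).hom ((Category.assoc _ _ _).trans (congrArg (_ ≫ ·)
        ((Category.assoc _ _ _).trans ((congrArg (_ ≫ ·) (pullback.lift_snd _ _ _)).trans
          (fibreIso_fst f g f' g' η' h))))))
      (pullback.lift_snd _ _ _) trivial
  let θ := (EtCore.bcTopIsTerminal b).from ((EtCoh.bc (pullback.fst f' η')).obj (EtCoh.top X'))
  have hT : transfer (fibreIso f g f' g' η' h).hom (pullback.fst f (η' ≫ g)) b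
      (fibreIso_fst f g f' g' η' h) G (EtCoh.top X) (resS f (η' ≫ g) G v s) =
      ((EtDesc.pullSh b).obj G).obj.map jb.op (pullSect b G s) := by
    refine (transfer_map_compat (fibreIso f g f' g' η' h).hom _ b (fibreIso_fst f g f' g' η' h) G
      (jz f (η' ≫ g) v) jb ?_ _).trans
      (congrArg _ (transfer_pullSect (fibreIso f g f' g' η' h).hom _ b (fibreIso_fst f g f' g' η' h) G s))
    refine compat_of_graph (fibreIso f g f' g' η' h).hom _ b (fibreIso_fst f g f' g' η' h) _ _
      (pullback.lift (pullback.snd f (η' ≫ g) ≫ v.left) (pullback.fst f (η' ≫ g))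
        ((Category.assoc _ _ _).trans ((congrArg (_ ≫ ·) (Over.w v)).trans pullback.condition.symm)))
      _ ?_ (pullback.lift_fst _ _ _) rfl
    refine (pullback.lift_fst _ _ _).trans (pullback.hom_ext ?_ ?_)
    · exact (pullback.lift_fst _ _ _).trans ((congrArg (_ ≫ ·) (pullback.lift_fst _ _ _)).symm.trans
        (Category.assoc _ _ _).symm)
    · exact (pullback.lift_snd _ _ _).trans ((congrArg (_ ≫ ·) (pullback.lift_snd _ _ _)).symm.trans
        (Category.assoc _ _ _).symm)
  refine Eq.trans ?_ (congrArg (fun x => (EtDesc.pullVia _ _ _ rfl G).inv.hom.app _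
      (((EtDesc.pullSh b).obj G).obj.map θ.op x)) hT.symm)
  refine Eq.trans ?_ (congrArg (fun x => (EtDesc.pullVia _ _ _ rfl G).inv.hom.app _ x)
    (Functor.map_comp_apply ((EtDesc.pullSh b).obj G).obj jb.op θ.op (pullSect b G s)))
  rw [← op_comp]
  refine map_pullSect_pullSect (pullback.fst f' η') g' b rfl G
    (jz f' η' z ≫ (EtCoh.bc (pullback.fst f' η')).map (cMap f g f' g' h.w V)) (θ ≫ jb) ?_ s
  refine bc_bc_bc_ext f f' g' η' ?_
  show ((((θ ≫ jb).left ≫ (tm (pullback.fst f' η') g' b rfl ((EtCoh.bc f).obj V)).left) ≫ pullback.fst _ _) ≫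
      pullback.fst _ _) ≫ pullback.fst V.hom f =
    ((((jz f' η' z).left ≫ ((EtCoh.bc (pullback.fst f' η')).map (cMap f g f' g' h.w V)).left) ≫
      pullback.fst _ _) ≫ pullback.fst _ _) ≫ pullback.fst V.hom f
  refine Eq.trans (congrArg (· ≫ pullback.fst V.hom f) ((Category.assoc _ _ _).trans
    ((Category.assoc _ _ _).trans ((congrArg (_ ≫ ·) ((Category.assoc _ _ _).symm.trans
      (tm_fst_fst _ _ _ _ _))).trans ((Category.assoc _ _ _).trans (congrArg (θ.left ≫ ·) (pullback.lift_fst _ _ _))))))) ?_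
  refine Eq.trans ?_ (Eq.symm ((congrArg (fun k => (k ≫ pullback.fst _ _) ≫ pullback.fst V.hom f)
    ((Category.assoc _ _ _).trans ((congrArg (_ ≫ ·) (bc_map_fst _ (cMap f g f' g' h.w V))).trans
      (Category.assoc _ _ _).symm))).trans ((Category.assoc _ _ _).trans ((Category.assoc _ _ _).trans
        (congrArg (_ ≫ ·) (cMap_fst_fst f g f' g' h.w V))))))
  refine Eq.trans ?_ (Eq.symm ((Category.assoc _ _ _).symm.trans ((congrArg (· ≫ pullback.fst V.hom g)
    (jz_fst_fst f' η' z)).trans ((Category.assoc _ _ _).trans (congrArg (_ ≫ ·) ((Category.assoc _ _ _).trans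
      (congrArg (_ ≫ ·) (fiberCompIso_inv_left g η' V v))))))))
  refine (congrArg (· ≫ pullback.fst V.hom f) ((Category.assoc _ _ _).symm.trans
    (congrArg (· ≫ (fibreIso f g f' g' η' h).hom ≫ _) (Over.w θ.hom)))).trans ?_
  refine (Category.assoc _ _ _).trans (congrArg (_ ≫ ·) ?_)
  refine (Category.assoc _ _ _).trans ((congrArg (_ ≫ ·) (pullback.lift_fst _ _ _)).trans ?_)
  exact (Category.assoc _ _ _).symm.trans (congrArg (· ≫ v.left) (fibreIso_snd f g f' g' η' h))

theorem stalk_baseChange0Sh (h : IsPullback g' f' f g) (G : EtDesc.Sh X) {V : Y.Etale}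
    (v : (Scheme.pointSmallEtale (η' ≫ g)).fiber.obj V) (s : pSect f G V) :
    ∃ s' : pSect f' ((EtDesc.pullSh g').obj G) ((EtCoh.bc g).obj V),
      (Scheme.pointSmallEtale η').sheafFiber.map (EtBC.baseChange0Sh f g f' g' h.w G)
          ((stalkPullShIso g η').inv.app ((EtDesc.pushSh f).obj G) (pGerm f (η' ≫ g) G v s)) =
        pGerm f' η' ((EtDesc.pullSh g').obj G) ((fiberCompIso g η').inv.app V v) s' ∧
      resS f' η' ((EtDesc.pullSh g').obj G) ((fiberCompIso g η').inv.app V v) s' =
        cmpS f g f' g' η' h G (resS f (η' ≫ g) G v s) := by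
  refine ⟨_, ?_, resS_baseChange0Sh f g f' g' η' h G v s⟩
  refine (congrArg _ (stalkPullShIso_inv_germ g η' ((EtDesc.pushSh f).obj G) V v s)).trans ?_
  exact germ_naturality η' (EtBC.baseChange0Sh f g f' g' h.w G) _ _ _

theorem bijective_stalk_baseChange0Sh (h : IsPullback g' f' f g) (G : EtDesc.Sh X) :
    Function.Bijective ((Scheme.pointSmallEtale η').sheafFiber.map (EtBC.baseChange0Sh f g f' g' h.w G)) := by
  have hI : Function.Bijective ((stalkPullShIso g η').inv.app ((EtDesc.pushSh f).obj G)) :=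
    (isIso_iff_bijective _).1 inferInstance
  have hK := cmpS_bijective f g f' g' η' h G
  refine ⟨fun a b hab => ?_, fun y => ?_⟩
  · obtain ⟨a, rfl⟩ := hI.2 a
    obtain ⟨b, rfl⟩ := hI.2 b
    obtain ⟨V, v, s, rfl⟩ := germ_surjective (η' ≫ g) ((EtDesc.pushSh f).obj G) a
    obtain ⟨W, w, t, rfl⟩ := germ_surjective (η' ≫ g) ((EtDesc.pushSh f).obj G) b
    obtain ⟨s', hs', hs''⟩ := stalk_baseChange0Sh f g f' g' η' h G v s
    obtain ⟨t', ht', ht''⟩ := stalk_baseChange0Sh f g f' g' η' h G w t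
    have e := resS_congr f' η' _ _ _ s' t' (hs'.symm.trans (hab.trans ht'))
    exact congrArg _ (pGerm_congr f (η' ≫ g) G v w s t (hK.1 (hs''.symm.trans (e.trans ht''))))
  · obtain ⟨V', z, y', rfl⟩ := germ_surjective η' ((EtDesc.pushSh f').obj ((EtDesc.pullSh g').obj G)) y
    obtain ⟨σ, hσ⟩ := hK.2 (resS f' η' ((EtDesc.pullSh g').obj G) z y')
    obtain ⟨V, v, s, rfl⟩ := exists_resS f (η' ≫ g) G σ
    obtain ⟨s', hs', hs''⟩ := stalk_baseChange0Sh f g f' g' η' h G v s
    exact ⟨_, hs'.trans (pGerm_congr f' η' _ _ z s' y' (hs''.trans hσ))⟩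

/-- **Proper base change for sheaves of sets.** -/
theorem isIso_baseChange0Sh {X Y X' Y' : Scheme.{u}} (f : X ⟶ Y) [IsProper f] (g : Y' ⟶ Y)
    (f' : X' ⟶ Y') (g' : X' ⟶ X) (h : IsPullback g' f' f g) (G : EtDesc.Sh X) :
    IsIso (EtBC.baseChange0Sh f g f' g' h.w G) := by
  haveI : IsProper f' := MorphismProperty.of_isPullback (P := @IsProper) h ‹_›
  refine isIso_of_stalkSh _ fun y => ?_
  exact ⟨_, _, SeparableClosure.isSepClosed _, geomPt y, geomPt_base y,
    bijective_stalk_baseChange0Sh f g f' g' (geomPt y) h G⟩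

end Groth.Agent.H15Site.SetBC
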