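import Groth.Agent.H15Site.FppfEt.ProperPush
import Groth.Agent.H15Site.SetBC.Main

/-!
# Proper direct images of sheaves of sets commute with inverse images to the big étale site
-/

set_option autoImplicit false
set_option linter.style.haveILetI false
set_option linter.unusedSectionVars false
set_option backward.isDefEq.respectTransparency false
set_option backward.isDefEq.respectTransparency.types false

universe u

open CategoryTheory CategoryTheory.Limits AlgebraicGeometry Opposite
open scoped Groth.Agent.H18Et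

namespace Groth.Agent.H15Site.SetBC.Big

open Groth.Agent.H15Site.FppfEt (fstHom fstHom_naturality exch exch_fst exch_snd isIso_exch exch_naturality pW)

/-- Sheaves of sets on the big étale site. -/
abbrev ShB (S : Scheme.{u}) : Type (u + 2) := Sheaf (QuotSh.J Scheme.etalePrecoverage S) (Type (u + 1))

/-- Restriction to the small étale site. -/
noncomputable abbrev rS (S : Scheme.{u}) : ShB S ⥤ EtDesc.Sh S :=
  (EtFppf.a S).sheafPushforwardContinuous (Type (u + 1)) S.smallEtaleTopology (QuotSh.J Scheme.etalePrecoverage S)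

/-- Inverse image to the big étale site. -/
noncomputable abbrev pS (S : Scheme.{u}) : EtDesc.Sh S ⥤ ShB S :=
  (EtFppf.a S).sheafPullback (Type (u + 1)) S.smallEtaleTopology (QuotSh.J Scheme.etalePrecoverage S)

/-- The adjunction. -/
noncomputable abbrev adjP (S : Scheme.{u}) : pS S ⊣ rS S :=
  (EtFppf.a S).sheafAdjunctionContinuous (Type (u + 1)) S.smallEtaleTopology (QuotSh.J Scheme.etalePrecoverage S)

/-- Restriction along a morphism to a small étale site. -/
noncomputable abbrev resAlong {T S : Scheme.{u}} (g : T ⟶ S) : ShB S ⥤ EtDesc.Sh T :=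
  BigSite.pullBig Scheme.etalePrecoverage g (Type (u + 1)) ⋙ rS T

/-- `π⁻¹ F`. -/
noncomputable abbrev bigS {S : Scheme.{u}} (F : EtDesc.Sh S) : ShB S := (pS S).obj F

noncomputable def pushResS {T S : Scheme.{u}} (f : T ⟶ S) :
    BigSite.pushBig Scheme.etalePrecoverage f (Type (u + 1)) ⋙ rS S ≅ rS T ⋙ EtDesc.pushSh f :=
  NatIso.ofComponents (fun F => (fullyFaithfulSheafToPresheaf _ _).preimageIso
    (Functor.isoWhiskerRight (NatIso.op (H13Desc.BigRes.aBC f).symm) F.obj)) (fun h => by
    ext X x
    exact ConcreteCategory.congr_hom (h.hom.naturality _).symm x)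

noncomputable def piPullIsoS {T S : Scheme.{u}} (f : T ⟶ S) :
    pS S ⋙ BigSite.pullBig Scheme.etalePrecoverage f (Type (u + 1)) ≅ EtDesc.pullSh f ⋙ pS T :=
  Adjunction.leftAdjointUniq
    (((adjP S).comp (BigSite.bigAdj Scheme.etalePrecoverage f (Type (u + 1)))).ofNatIsoRight (pushResS f))
    ((EtDesc.adjSh f).comp (adjP T))

theorem map_mapS {S : Scheme.{u}} (F : ShB S) {A B C : Over S} (g : A ⟶ B) (h : B ⟶ C) (x : F.obj.obj (op C)) :
    F.obj.map g.op (F.obj.map h.op x) = F.obj.map (g ≫ h).op x := by
  rw [op_comp, Functor.map_comp_apply]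

theorem map_congrS {S : Scheme.{u}} (F : ShB S) {A B : Over S} {g h : A ⟶ B} (e : g = h) (x : F.obj.obj (op B)) :
    F.obj.map g.op x = F.obj.map h.op x := by rw [e]

section Comparison

variable {X S : Scheme.{u}} (f : X ⟶ S) (F : EtDesc.Sh X)

/-- `f_* F`. -/
noncomputable abbrev fF : EtDesc.Sh S := (EtDesc.pushSh f).obj F

/-- `π_X⁻¹F` pushed to the big site of `S`. -/
noncomputable abbrev pbF : ShB S := (BigSite.pushBig Scheme.etalePrecoverage f (Type (u + 1))).obj (bigS F)

/-- The comparison map. -/
noncomputable def α : bigS (fF f F) ⟶ pbF f F :=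
  ((adjP S).homEquiv (fF f F) (pbF f F)).symm
    ((EtDesc.pushSh f).map ((adjP X).unit.app F) ≫ (pushResS f).inv.app (bigS F))

theorem α_unit (V : S.Etale) (s : EtDesc.sect (fF f F) V) :
    (α f F).hom.app (op ((EtFppf.a S).obj V)) (((adjP S).unit.app (fF f F)).hom.app (op V) s) =
      (bigS F).obj.map ((H13Desc.BigRes.aBC f).hom.app V).op
        (((adjP X).unit.app F).hom.app (op ((EtCoh.bc f).obj V)) s) := by
  have e := ((adjP S).homEquiv (fF f F) (pbF f F)).apply_symm_apply
    ((EtDesc.pushSh f).map ((adjP X).unit.app F) ≫ (pushResS f).inv.app (bigS F))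
  rw [Adjunction.homEquiv_unit] at e
  exact ConcreteCategory.congr_hom (congr_app (congrArg (fun k => (sheafToPresheaf _ _).map k) e) (op V)) s

end Comparison

section Theta

variable {T S : Scheme.{u}} (g : T ⟶ S)

/-- The image of a section of `H` in `π⁻¹H` on `T`. -/
noncomputable def τ₀ (H : EtDesc.Sh S) :
    H ⟶ (EtDesc.pushSh g).obj ((resAlong g).obj (bigS H)) :=
  ⟨{ app := fun V => ((adjP S).unit.app H).hom.app V ≫
       (bigS H).obj.map (fstHom g V.unop).op
     naturality := fun V V' h => by
      refine ((Category.assoc _ _ _).symm.trans ((congrArg (· ≫ _)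
        (((adjP S).unit.app H).hom.naturality h)).trans
          (Category.assoc _ _ _))).trans ?_
      refine Eq.trans ?_ (Category.assoc _ _ _).symm
      refine congrArg (_ ≫ ·) ?_
      show (bigS H).obj.map ((EtFppf.a S).map h.unop).op ≫ (bigS H).obj.map (fstHom g V'.unop).op =
        (bigS H).obj.map (fstHom g V.unop).op ≫
          (bigS H).obj.map ((Over.map g).map ((EtFppf.a T).map ((EtCoh.bc g).map h.unop))).op
      rw [← Functor.map_comp, ← Functor.map_comp, ← op_comp, ← op_comp, fstHom_naturality] }⟩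

/-- `g^* H ⟶ (π⁻¹H)|_{T}`. -/
noncomputable def τ (H : EtDesc.Sh S) :
    (EtDesc.pullSh g).obj H ⟶ (resAlong g).obj (bigS H) :=
  ((EtDesc.adjSh g).homEquiv _ _).symm (τ₀ g H)

theorem τ_unit (H : EtDesc.Sh S) (V : S.Etale) (s : EtDesc.sect H V) :
    (τ g H).hom.app (op ((EtCoh.bc g).obj V))
        (((EtDesc.adjSh g).unit.app H).hom.app (op V) s) =
      (bigS H).obj.map (fstHom g V).op
        (((adjP S).unit.app H).hom.app (op V) s) := by
  have e := ((EtDesc.adjSh g).homEquiv _ _).apply_symm_apply (τ₀ g H)
  rw [Adjunction.homEquiv_unit] at e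
  exact ConcreteCategory.congr_hom (congr_app (congrArg (fun k => (sheafToPresheaf _ _).map k) e) (op V)) s

/-- `τ` is the small site form of `π⁻¹` commuting with inverse images. -/
theorem τ_eq (H : EtDesc.Sh S) :
    τ g H = (adjP T).unit.app ((EtDesc.pullSh g).obj H) ≫
      (rS T).map ((piPullIsoS g).inv.app H) := by
  apply ((EtDesc.adjSh g).homEquiv _ _).injective
  rw [τ, Equiv.apply_symm_apply, Adjunction.homEquiv_unit, Functor.map_comp, ← Category.assoc]
  let adj1 := ((adjP S).comp
      (BigSite.bigAdj Scheme.etalePrecoverage g (Type (u + 1)))).ofNatIsoRight (pushResS g)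
  let adj2 := (EtDesc.adjSh g).comp (adjP T)
  have h1 := Adjunction.unit_leftAdjointUniq_hom_app adj1 adj2 H
  have h2 : adj2.unit.app H ≫ (rS T ⋙ EtDesc.pushSh g).map
      ((piPullIsoS g).inv.app H) = adj1.unit.app H := by
    rw [← h1, Category.assoc, ← Functor.map_comp]
    erw [(piPullIsoS g).hom_inv_id_app, CategoryTheory.Functor.map_id, Category.comp_id]
  have h3 : adj2.unit.app H = (EtDesc.adjSh g).unit.app H ≫
      (EtDesc.pushSh g).map ((adjP T).unit.app ((EtDesc.pullSh g).obj H)) :=
    Adjunction.comp_unit_app _ _ _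
  rw [h3] at h2
  refine Eq.trans ?_ h2.symm
  refine CategoryTheory.Sheaf.hom_ext (NatTrans.ext (funext fun V => ConcreteCategory.hom_ext _ _ fun s => ?_))
  simp only [adj1, Adjunction.ofNatIsoRight, Adjunction.comp_unit_app, NatTrans.comp_app,
    Functor.whiskerLeft_app, ObjectProperty.FullSubcategory.comp_hom]
  refine Eq.trans ?_ (map_mapS (bigS H) _ _ _).symm
  exact map_congrS (bigS H) (Over.OverMorphism.ext (Category.id_comp _).symm) _

theorem isIso_τ (H : EtDesc.Sh S) : IsIso (τ g H) := by
  haveI := (Groth.Agent.S6184.result T).1 ((EtDesc.pullSh g).obj H)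
  rw [τ_eq]
  infer_instance

end Theta

variable {X S : Scheme.{u}} (f : X ⟶ S) {T : Scheme.{u}} (g : T ⟶ S) (F : EtDesc.Sh X)

/-- The comparison map on the small site of `T`. -/
noncomputable def β : (resAlong g).obj (bigS (fF f F)) ⟶
    (EtDesc.pushSh (pullback.snd f g)).obj
      ((resAlong (pullback.fst f g)).obj (bigS F)) :=
  ⟨{ app := fun V => (α f F).hom.app (op ((Over.map g).obj ((EtFppf.a T).obj V.unop))) ≫
       (bigS F).obj.map (exch f g V.unop).op
     naturality := fun V V' h => by
      refine ((Category.assoc _ _ _).symm.trans ((congrArg (· ≫ _)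
        ((α f F).hom.naturality ((Over.map g).map ((EtFppf.a T).map h.unop)).op)).trans
          (Category.assoc _ _ _))).trans ?_
      refine Eq.trans ?_ (Category.assoc _ _ _).symm
      refine congrArg (_ ≫ ·) ?_
      show (bigS F).obj.map ((Over.pullback f).map ((Over.map g).map ((EtFppf.a T).map h.unop))).op ≫
          (bigS F).obj.map (exch f g V'.unop).op =
        (bigS F).obj.map (exch f g V.unop).op ≫ (bigS F).obj.map ((Over.map (pullback.fst f g)).map
          ((EtFppf.a (pullback f g)).map ((EtCoh.bc (pullback.snd f g)).map h.unop))).op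
      rw [← Functor.map_comp, ← Functor.map_comp, ← op_comp, ← op_comp, exch_naturality] }⟩

theorem τ_comp_β :
    τ g (fF f F) ≫ β f g F =
      EtBC.baseChange0Sh f g (pullback.snd f g) (pullback.fst f g) pullback.condition F ≫
        (EtDesc.pushSh (pullback.snd f g)).map (τ (pullback.fst f g) F) := by
  apply ((EtDesc.adjSh g).homEquiv _ _).injective
  refine CategoryTheory.Sheaf.hom_ext (NatTrans.ext (funext fun V => ConcreteCategory.hom_ext _ _ fun s => ?_))
  rw [Adjunction.homEquiv_unit, Adjunction.homEquiv_unit]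
  show (β f g F).hom.app _ ((τ g (fF f F)).hom.app _
      (((EtDesc.adjSh g).unit.app (fF f F)).hom.app V s)) =
    (τ (pullback.fst f g) F).hom.app _ ((EtBC.baseChange0Sh f g (pullback.snd f g) (pullback.fst f g)
      pullback.condition F).hom.app _ (((EtDesc.adjSh g).unit.app (fF f F)).hom.app V s))
  refine (congrArg ((β f g F).hom.app _) (τ_unit g (fF f F) V.unop s)).trans ?_
  refine Eq.trans ?_ (congrArg ((τ (pullback.fst f g) F).hom.app _)
    (SetBC.baseChange0Sh_unit f g (pullback.snd f g) (pullback.fst f g) pullback.condition F V.unop s)).symm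
  refine Eq.trans ?_ (ConcreteCategory.congr_hom ((τ (pullback.fst f g) F).hom.naturality
    (H18PBC.DegZero.cMap f g (pullback.snd f g) (pullback.fst f g) pullback.condition V.unop).op) _).symm
  refine Eq.trans ?_ (congrArg (((resAlong (pullback.fst f g)).obj
    (bigS F)).obj.map _) (τ_unit (pullback.fst f g) F ((EtCoh.bc f).obj V.unop) s)).symm
  refine (congrArg ((bigS F).obj.map (exch f g ((EtCoh.bc g).obj V.unop)).op)
    ((ConcreteCategory.congr_hom ((α f F).hom.naturality (fstHom g V.unop).op) _).trans
      (congrArg ((bigS F).obj.map ((Over.pullback f).map (fstHom g V.unop)).op)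
        (α_unit f F V.unop s)))).trans ?_
  refine (congrArg _ (map_mapS (bigS F) _ _ _)).trans ?_
  refine (map_mapS (bigS F) _ _ _).trans ?_
  refine Eq.trans ?_ (map_mapS (bigS F) _ _ _).symm
  refine map_congrS (bigS F) (Over.OverMorphism.ext ?_) _
  have hc : ∀ {Z : Scheme.{u}} (k : pullback V.unop.hom f ⟶ Z),
      ((H13Desc.BigRes.aBC f).hom.app V.unop).left ≫ k = k := fun k => Category.id_comp k
  refine pullback.hom_ext ?_ ?_
  · refine Eq.trans ?_ (Eq.symm ((Category.assoc _ _ _).trans
      (H18PBC.DegZero.cMap_fst_fst f g (pullback.snd f g) (pullback.fst f g) pullback.condition V.unop)))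
    refine (Category.assoc _ _ _).trans ((congrArg (_ ≫ ·) ((Category.assoc _ _ _).trans
      ((congrArg (_ ≫ ·) (hc _)).trans (pullback.lift_fst _ _ _)))).trans ?_)
    exact (Category.assoc _ _ _).symm.trans (congrArg (· ≫ pullback.fst V.unop.hom g)
      (exch_fst f g ((EtCoh.bc g).obj V.unop)))
  · refine Eq.trans ?_ (Eq.symm ((Category.assoc _ _ _).trans ((congrArg (_ ≫ ·)
      (pullback.condition (f := ((EtCoh.bc f).obj V.unop).hom) (g := pullback.fst f g))).trans
      ((Category.assoc _ _ _).symm.trans (congrArg (· ≫ pullback.fst f g)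
        (Over.w (H18PBC.DegZero.cMap f g (pullback.snd f g) (pullback.fst f g) pullback.condition V.unop).hom))))))
    refine (Category.assoc _ _ _).trans ((congrArg (_ ≫ ·) ((Category.assoc _ _ _).trans
      ((congrArg (_ ≫ ·) (hc _)).trans (pullback.lift_snd _ _ _)))).trans ?_)
    exact exch_snd f g ((EtCoh.bc g).obj V.unop)

variable [IsProper f]

theorem isIso_β : IsIso (β f g F) := by
  haveI := isIso_τ g (fF f F)
  haveI := isIso_τ (pullback.fst f g) F
  haveI : IsIso (EtBC.baseChange0Sh f g (pullback.snd f g) (pullback.fst f g) pullback.condition F) :=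
    SetBC.isIso_baseChange0Sh f g (pullback.snd f g) (pullback.fst f g)
      (IsPullback.of_hasPullback f g) F
  haveI : IsIso (τ g (fF f F) ≫ β f g F) := by rw [τ_comp_β]; infer_instance
  exact IsIso.of_isIso_comp_left (τ g (fF f F)) _

theorem bijective_α_app (W : Over S) : Function.Bijective ((α f F).hom.app (op W)) := by
  haveI := isIso_β f W.hom F
  haveI : IsIso (β f W.hom F).hom := (sheafToPresheaf _ _).map_isIso (β f W.hom F)
  haveI := isIso_exch f W.hom (EtCoh.top W.left)
  let W' : Over S := (Over.map W.hom).obj ((EtFppf.a W.left).obj (EtCoh.top W.left))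
  haveI : IsIso ((α f F).hom.app (op W')) := by
    haveI : IsIso ((α f F).hom.app (op W') ≫ (bigS F).obj.map (exch f W.hom (EtCoh.top W.left)).op) :=
      inferInstanceAs (IsIso ((β f W.hom F).hom.app (op (EtCoh.top W.left))))
    exact IsIso.of_isIso_comp_right _ ((bigS F).obj.map (exch f W.hom (EtCoh.top W.left)).op)
  let i : W' ⟶ W := Over.homMk (𝟙 _) (by show 𝟙 _ ≫ W.hom = 𝟙 _ ≫ W.hom; rfl)
  haveI : IsIso i := by
    haveI : IsIso ((Over.forget S).map i) := inferInstanceAs (IsIso (𝟙 W.left))
    exact isIso_of_reflects_iso _ (Over.forget S)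
  haveI : IsIso ((α f F).hom.app (op W) ≫ (pbF f F).obj.map i.op) := by
    rw [← (α f F).hom.naturality i.op]; infer_instance
  haveI := IsIso.of_isIso_comp_right ((α f F).hom.app (op W)) ((pbF f F).obj.map i.op)
  exact (isIso_iff_bijective _).1 inferInstance

/-- **Proper direct images commute with `π⁻¹`**. -/
theorem isIso_α_of_isProper : IsIso (α f F) := by
  haveI : IsIso (α f F).hom := by
    haveI : ∀ W, IsIso ((α f F).hom.app W) := fun W =>
      (ConcreteCategory.isIso_iff_bijective _).2 (bijective_α_app f F W.unop)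
    exact NatIso.isIso_of_isIso_app _
  haveI : IsIso ((sheafToPresheaf _ _).map (α f F)) := inferInstanceAs (IsIso (α f F).hom)
  exact isIso_of_reflects_iso _ (sheafToPresheaf _ _)

/-- **Inverse image to the big site commutes with proper direct images of sheaves of sets.** -/
noncomputable def pushIso {X S : Scheme.{u}} (f : X ⟶ S) [IsProper f] :
    EtDesc.pushSh f ⋙ pS S ≅ pS X ⋙ BigSite.pushBig Scheme.etalePrecoverage f (Type (u + 1)) :=
  haveI : ∀ F, IsIso (α f F) := fun F => isIso_α_of_isProper f F
  NatIso.ofComponents (fun F => asIso (α f F)) fun {F F'} φ => by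
    show (pS S).map ((EtDesc.pushSh f).map φ) ≫ α f F' = α f F ≫
      (BigSite.pushBig Scheme.etalePrecoverage f (Type (u + 1))).map ((pS X).map φ)
    unfold α
    rw [← Adjunction.homEquiv_naturality_left_symm, ← Adjunction.homEquiv_naturality_right_symm]
    refine congrArg _ ?_
    rw [← Category.assoc, ← Functor.map_comp]
    erw [(adjP X).unit.naturality φ]
    rw [Functor.map_comp, Category.assoc, Category.assoc]
    exact congrArg (_ ≫ ·) ((pushResS f).inv.naturality ((pS X).map φ))

end Groth.Agent.H15Site.SetBC.Big
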