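import Groth.Agent.H18PBC.StalkH0

/-!
# The stalk of a proper direct image of a sheaf of sets
-/

set_option autoImplicit false
set_option linter.style.haveILetI false
set_option linter.unusedSectionVars false
set_option backward.isDefEq.respectTransparency false
set_option backward.isDefEq.respectTransparency.types false

universe u

open CategoryTheory CategoryTheory.Limits AlgebraicGeometry Opposite
open scoped Groth.Agent.H18Et

namespace Groth.Agent.H15Site.SetBC

open H15Site.SetDescent H18Et H18PBC H18PBC.Fibre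

variable {X Y : Scheme.{u}} {Ω : Type u} [Field Ω] [IsSepClosed Ω] (f : X ⟶ Y)
  (ξ : Spec (CommRingCat.of Ω) ⟶ Y) (G : EtDesc.Sh X)

/-- A section of a direct image of sheaves of sets. -/
abbrev pSect (V : Y.Etale) : Type (u + 1) := G.obj.obj (op ((EtCoh.bc f).obj V))

theorem resS_map {V V' : Y.Etale} (g : V' ⟶ V) (z : (Scheme.pointSmallEtale ξ).fiber.obj V') (s : pSect f G V) :
    resS f ξ G z (G.obj.map ((EtCoh.bc f).map g).op s) =
      resS f ξ G ((Scheme.pointSmallEtale ξ).fiber.map g z) s := by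
  unfold resS
  rw [pullSect_map]
  refine (Functor.map_comp_apply _ _ _ _).symm.trans ?_
  rw [← op_comp, jz_map]

theorem exists_common {V V' : Y.Etale} (z : (Scheme.pointSmallEtale ξ).fiber.obj V)
    (z' : (Scheme.pointSmallEtale ξ).fiber.obj V') :
    ∃ (W : Y.Etale) (a : W ⟶ V) (b : W ⟶ V') (w : (Scheme.pointSmallEtale ξ).fiber.obj W),
      (Scheme.pointSmallEtale ξ).fiber.map a w = z ∧ (Scheme.pointSmallEtale ξ).fiber.map b w = z' := by
  obtain ⟨⟨W, w⟩, ⟨a, ha⟩, ⟨b, hb⟩, -⟩ := IsCofilteredOrEmpty.cone_objs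
    (C := (Scheme.pointSmallEtale ξ).fiber.Elements) ⟨V, z⟩ ⟨V', z'⟩
  exact ⟨W, a, b, w, ha, hb⟩

/-- The germ of a section of the direct image. -/
noncomputable abbrev pGerm {V : Y.Etale} (z : (Scheme.pointSmallEtale ξ).fiber.obj V) (s : pSect f G V) :
    ToType ((Scheme.pointSmallEtale ξ).sheafFiber.obj ((EtDesc.pushSh f).obj G)) :=
  germ ξ ((EtDesc.pushSh f).obj G) V z s

theorem pGerm_map {V V' : Y.Etale} (g : V' ⟶ V) (z : (Scheme.pointSmallEtale ξ).fiber.obj V') (s : pSect f G V) :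
    pGerm f ξ G z (G.obj.map ((EtCoh.bc f).map g).op s) =
      pGerm f ξ G ((Scheme.pointSmallEtale ξ).fiber.map g z) s :=
  (Scheme.pointSmallEtale ξ).toPresheafFiber_w_apply g z ((EtDesc.pushSh f).obj G).obj s

theorem resS_congr {V V' : Y.Etale} (z : (Scheme.pointSmallEtale ξ).fiber.obj V)
    (z' : (Scheme.pointSmallEtale ξ).fiber.obj V') (s : pSect f G V) (s' : pSect f G V')
    (h : pGerm f ξ G z s = pGerm f ξ G z' s') : resS f ξ G z s = resS f ξ G z' s' := by
  obtain ⟨W, a, b, w, rfl, rfl⟩ := exists_common ξ z z'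
  rw [← pGerm_map, ← pGerm_map] at h
  obtain ⟨W', c, w', rfl, hc⟩ := (germ_eq_iff ξ ((EtDesc.pushSh f).obj G) W w _ _).1 h
  rw [← resS_map f ξ G a, ← resS_map f ξ G b, ← resS_map f ξ G c, ← resS_map f ξ G c]
  exact congrArg (resS f ξ G w') hc

variable [IsProper f]

theorem pGerm_congr {V V' : Y.Etale} (z : (Scheme.pointSmallEtale ξ).fiber.obj V)
    (z' : (Scheme.pointSmallEtale ξ).fiber.obj V') (s : pSect f G V) (s' : pSect f G V')
    (h : resS f ξ G z s = resS f ξ G z' s') : pGerm f ξ G z s = pGerm f ξ G z' s' := by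
  obtain ⟨W, a, b, w, rfl, rfl⟩ := exists_common ξ z z'
  obtain ⟨i, ⟨g, hg⟩⟩ := Nbhd.exists_index ξ ⟨W, w⟩
  change (Scheme.pointSmallEtale ξ).fiber.map g (Nbhd.zb ξ i) = w at hg
  rw [← hg, ← resS_map f ξ G a, ← resS_map f ξ G b, ← resS_map f ξ G g, ← resS_map f ξ G g] at h
  rw [← hg, ← pGerm_map f ξ G a, ← pGerm_map f ξ G b, ← pGerm_map f ξ G g, ← pGerm_map f ξ G g]
  obtain ⟨k, c, hk⟩ := (resS_bijective f ξ G).2 i _ _ h
  rw [← Nbhd.zb_map ξ c, ← pGerm_map f ξ G ((Nbhd.nb ξ).map c), ← pGerm_map f ξ G ((Nbhd.nb ξ).map c)]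
  exact congrArg _ hk

theorem exists_resS (σ : ((EtDesc.pullSh (pullback.fst f ξ)).obj G).obj.obj
      (op ((EtCoh.bc (pullback.fst f ξ)).obj (EtCoh.top X)))) :
    ∃ (V : Y.Etale) (z : (Scheme.pointSmallEtale ξ).fiber.obj V) (s : pSect f G V), resS f ξ G z s = σ := by
  obtain ⟨i, s, h⟩ := (resS_bijective f ξ G).1 σ
  exact ⟨_, Nbhd.zb ξ i, s, h⟩

end Groth.Agent.H15Site.SetBC
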